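import Mathlib

/-!
Matrices `g` with `g ^ r = c`, `c` not an `r`-th power: they exist exactly when `r ∣ n` and are all conjugate.
-/

set_option autoImplicit false

namespace CfsgLib.ProjClass

open Polynomial

variable {F : Type*} [Field F] {r : ℕ}

/-- A map killed by an irreducible polynomial is a sum of copies of multiplication by a root. -/
theorem exists_equiv_root {V : Type*} [AddCommGroup V] [Module F V] [FiniteDimensional F V] {P : F[X]}
    [Fact (Irreducible P)] (T : Module.End F V) (hT : aeval T P = 0) :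
    P.natDegree ∣ Module.finrank F V ∧
      ∃ Φ : (Fin (Module.finrank F V / P.natDegree) → AdjoinRoot P) ≃ₗ[F] V,
        ∀ w, Φ (AdjoinRoot.root P • w) = T (Φ w) := by
  have hP : P ≠ 0 := (Fact.out : Irreducible P).ne_zero
  let ρ : AdjoinRoot P →ₐ[F] Module.End F V := Ideal.Quotient.liftₐ (Ideal.span {P}) (aeval T) (fun a ha => by
    obtain ⟨b, rfl⟩ := Ideal.mem_span_singleton'.1 ha
    rw [map_mul, hT, mul_zero])
  letI : Module (AdjoinRoot P) V := Module.compHom V ρ.toRingHom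
  haveI : IsScalarTower F (AdjoinRoot P) V := ⟨fun a x v => by
    show ρ (a • x) v = a • ρ x v
    rw [map_smul, LinearMap.smul_apply]⟩
  haveI : Module.Finite (AdjoinRoot P) V := Module.Finite.of_restrictScalars_finite F _ _
  haveI : Module.Finite F (AdjoinRoot P) := (AdjoinRoot.powerBasis hP).finite
  have hdim : P.natDegree * Module.finrank (AdjoinRoot P) V = Module.finrank F V := by
    rw [← Module.finrank_mul_finrank F (AdjoinRoot P) V, (AdjoinRoot.powerBasis hP).finrank]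
    rfl
  have hpos : 0 < P.natDegree := (Fact.out : Irreducible P).natDegree_pos
  have hs : Module.finrank F V / P.natDegree = Module.finrank (AdjoinRoot P) V := by
    rw [← hdim, Nat.mul_div_cancel_left _ hpos]
  refine ⟨⟨_, hdim.symm⟩, ?_⟩
  rw [hs]
  let e := (Module.finBasis (AdjoinRoot P) V).equivFun.symm
  refine ⟨e.restrictScalars F, fun w => ?_⟩
  show e (AdjoinRoot.root P • w) = T (e w)
  rw [map_smul]
  show ρ (AdjoinRoot.root P) (e w) = T (e w)
  rw [show ρ (AdjoinRoot.root P) = T from aeval_X (R := F) T]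

variable (hr : r.Prime) {n : ℕ}

/-- Scalar matrices as a homomorphism. -/
def sc (n : ℕ) (F : Type*) [Field F] : Fˣ →* GL (Fin n) F :=
  Units.map (Matrix.scalar (Fin n)).toMonoidHom

theorem sc_val (c : Fˣ) : (sc n F c : Matrix (Fin n) (Fin n) F) = Matrix.scalar (Fin n) (c : F) := rfl

theorem sc_comm (c : Fˣ) (g : GL (Fin n) F) : sc n F c * g = g * sc n F c :=
  Units.ext ((Matrix.scalar_commute (c : F) (fun _ => Commute.all _ _) (g : Matrix (Fin n) (Fin n) F)).eq)

theorem aeval_eq_zero_iff (g : GL (Fin n) F) (c : Fˣ) :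
    aeval (Matrix.toLin' (g : Matrix (Fin n) (Fin n) F)) (X ^ r - C (c : F)) = 0 ↔ g ^ r = sc n F c := by
  rw [map_sub, map_pow, aeval_X, aeval_C, sub_eq_zero]
  show Matrix.toLinAlgEquiv' (g : Matrix (Fin n) (Fin n) F) ^ r = _ ↔ _
  rw [← map_pow, ← Units.val_pow_eq_pow_val, Units.ext_iff, ← (Matrix.toLinAlgEquiv' (R := F)).injective.eq_iff]
  constructor <;> intro h <;> rw [h]
  · exact (AlgEquiv.commutes _ _).symm
  · exact AlgEquiv.commutes _ _

include hr

theorem fact_irreducible {c : Fˣ} (hc : ∀ u : Fˣ, u ^ r ≠ c) :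
    Irreducible (X ^ r - C (c : F)) := by
  refine X_pow_sub_C_irreducible_of_prime hr fun b hb => ?_
  have hb0 : b ≠ 0 := fun h => by
    rw [h, zero_pow hr.ne_zero] at hb
    exact c.ne_zero hb.symm
  exact hc (Units.mk0 b hb0) (Units.ext hb)

theorem dvd_of_pow_eq {c : Fˣ} (hc : ∀ u : Fˣ, u ^ r ≠ c) {g : GL (Fin n) F} (hg : g ^ r = sc n F c) :
    r ∣ n := by
  haveI := Fact.mk (fact_irreducible hr hc)
  have h := (exists_equiv_root _ ((aeval_eq_zero_iff g c).2 hg)).1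
  rwa [natDegree_X_pow_sub_C, Module.finrank_fin_fun] at h

theorem isConj_of_pow_eq {c : Fˣ} (hc : ∀ u : Fˣ, u ^ r ≠ c) {g h : GL (Fin n) F}
    (hg : g ^ r = sc n F c) (hh : h ^ r = sc n F c) : IsConj g h := by
  haveI := Fact.mk (fact_irreducible hr hc)
  obtain ⟨-, Φ, hΦ⟩ := exists_equiv_root _ ((aeval_eq_zero_iff g c).2 hg)
  obtain ⟨-, Ψ, hΨ⟩ := exists_equiv_root _ ((aeval_eq_zero_iff h c).2 hh)
  let e : (Fin n → F) ≃ₗ[F] (Fin n → F) := Φ.symm.trans Ψ
  have hE : LinearMap.toMatrix' (e : (Fin n → F) →ₗ[F] Fin n → F) *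
      LinearMap.toMatrix' (e.symm : (Fin n → F) →ₗ[F] Fin n → F) = 1 := by
    rw [← LinearMap.toMatrix'_comp, LinearEquiv.comp_symm, LinearMap.toMatrix'_id]
  let E : GL (Fin n) F := ⟨_, _, hE, mul_eq_one_comm.mp hE⟩
  refine isConj_iff.2 ⟨E, mul_inv_eq_iff_eq_mul.2 (Units.ext ?_)⟩
  show LinearMap.toMatrix' (e : (Fin n → F) →ₗ[F] Fin n → F) * (g : Matrix (Fin n) (Fin n) F) =
    (h : Matrix (Fin n) (Fin n) F) * LinearMap.toMatrix' (e : (Fin n → F) →ₗ[F] Fin n → F)
  apply Matrix.toLin'.injective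
  rw [Matrix.toLin'_mul, Matrix.toLin'_mul, Matrix.toLin'_toMatrix']
  refine LinearMap.ext fun v => ?_
  obtain ⟨w, rfl⟩ := Φ.surjective v
  show Ψ (Φ.symm (Matrix.toLin' (g : Matrix (Fin n) (Fin n) F) (Φ w))) =
    Matrix.toLin' (h : Matrix (Fin n) (Fin n) F) (Ψ (Φ.symm (Φ w)))
  rw [← hΦ w, Φ.symm_apply_apply, Φ.symm_apply_apply, hΨ]

theorem exists_pow_eq {c : Fˣ} (hc : ∀ u : Fˣ, u ^ r ≠ c) (hn : r ∣ n) :
    ∃ g : GL (Fin n) F, g ^ r = sc n F c := by
  obtain ⟨s, hs⟩ := hn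
  haveI := Fact.mk (fact_irreducible hr hc)
  let P : F[X] := X ^ r - C (c : F)
  have hP : P ≠ 0 := X_pow_sub_C_ne_zero hr.pos _
  haveI : Module.Finite F (AdjoinRoot P) := (AdjoinRoot.powerBasis hP).finite
  let e : (Fin s → AdjoinRoot P) ≃ₗ[F] (Fin n → F) := LinearEquiv.ofFinrankEq _ _ (by
    rw [Module.finrank_pi_fintype]
    simp [(AdjoinRoot.powerBasis hP).finrank, P, natDegree_X_pow_sub_C, hs, mul_comm])
  let L : AdjoinRoot P →ₐ[F] Module.End F (Fin n → F) :=
    (e.conjAlgEquiv F).toAlgHom.comp (Algebra.lsmul F F (Fin s → AdjoinRoot P))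
  let M : AdjoinRoot P →ₐ[F] Matrix (Fin n) (Fin n) F := (Matrix.toLinAlgEquiv' (R := F)).symm.toAlgHom.comp L
  have h0 : (AdjoinRoot.root P) ^ r = algebraMap F (AdjoinRoot P) (c : F) := by
    have := AdjoinRoot.eval₂_root P
    rwa [eval₂_sub, eval₂_pow, eval₂_X, eval₂_C, sub_eq_zero] at this
  have hu : IsUnit (AdjoinRoot.root P) := by
    refine (isUnit_pow_iff hr.ne_zero).1 ?_
    rw [h0]
    exact c.isUnit.map _
  obtain ⟨u, hu⟩ := hu
  refine ⟨Units.map M.toRingHom.toMonoidHom u, Units.ext ?_⟩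
  rw [Units.val_pow_eq_pow_val, sc_val]
  show (M u) ^ r = _
  rw [hu, ← map_pow, h0, AlgHom.commutes]
  rfl

end CfsgLib.ProjClass
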