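import Mathlib
import Cfsg.Agent.Lib.RootCount.GL
import Cfsg.Agent.Lib.ProjClass.Irred

/-!
Matrices with `g ^ r = 1` over a field with the `r`-th roots of unity, and orbits of cyclically shifted tuples.
-/

set_option autoImplicit false

namespace CfsgLib.ProjClass

open Polynomial CfsgLib.RootCount

variable {F : Type*} [Field F] [Fintype F] {r n : ℕ} [Fact r.Prime] [NeZero (r : F)]

omit [NeZero (r : F)] in
theorem cast_card_eq_one (h : r ∣ Fintype.card F - 1) : (Fintype.card F : ZMod r) = 1 := by
  rw [← Nat.sub_add_cancel Fintype.card_pos, Nat.cast_add, (CharP.cast_eq_zero_iff (ZMod r) r _).2 h,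
    Nat.cast_one, zero_add]

theorem exists_root_preimage (h : r ∣ Fintype.card F - 1) :
    ∃ z : Fˣ, z ^ r = 1 ∧ ∀ j : ZMod r, algebraMap F (Clo F) ((z : F) ^ j.val) = root F r j := by
  have hfix : zeta F r ^ Fintype.card F = zeta F r := by
    obtain ⟨k, hk⟩ := h
    have hc : Fintype.card F = r * k + 1 := by
      have := Fintype.card_pos (α := F); omega
    rw [hc, pow_succ, pow_mul, (zeta_spec F r).pow_eq_one, one_pow, one_mul]
  obtain ⟨a, ha⟩ := mem_range_of_pow_card F hfix
  have ha0 : a ≠ 0 := fun h0 => (zeta_spec F r).ne_zero (Fact.out : r.Prime).ne_zero (by rw [← ha, h0, map_zero])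
  refine ⟨Units.mk0 a ha0, Units.ext ?_, fun j => by rw [Units.val_mk0, map_pow, ha]; rfl⟩
  apply (algebraMap F (Clo F)).injective
  rw [Units.val_pow_eq_pow_val, Units.val_mk0, map_pow, ha, (zeta_spec F r).pow_eq_one, Units.val_one, map_one]

variable (n)

/-- The diagonal matrix with entries `z ^ (e i)`. -/
def diagOf (z : Fˣ) (e : Fin n → ZMod r) : GL (Fin n) F :=
  Units.map (Matrix.diagonalRingHom (Fin n) F).toMonoidHom (MulEquiv.piUnits.symm fun i => z ^ (e i).val)

variable {n}

omit [Fintype F] [Fact r.Prime] [NeZero (r : F)] in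
theorem diagOf_val (z : Fˣ) (e : Fin n → ZMod r) :
    (diagOf n z e : Matrix (Fin n) (Fin n) F) = Matrix.diagonal fun i => (z : F) ^ (e i).val := by
  ext i j
  by_cases h : i = j
  · subst h; simp [diagOf]
  · simp [diagOf, h]

omit [Fintype F] [NeZero (r : F)] in
theorem pow_val_add {z : Fˣ} (hz : z ^ r = 1) (a b : ZMod r) :
    (z : F) ^ a.val * (z : F) ^ b.val = (z : F) ^ (a + b).val := by
  rw [← pow_add, ZMod.val_add]
  conv_lhs => rw [← Nat.mod_add_div (a.val + b.val) r, pow_add, pow_mul, ← Units.val_pow_eq_pow_val z r, hz,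
    Units.val_one, one_pow, mul_one]

omit [Fintype F] [NeZero (r : F)] in
theorem diagOf_pow {z : Fˣ} (hz : z ^ r = 1) (e : Fin n → ZMod r) : diagOf n z e ^ r = 1 := by
  refine Units.ext ?_
  rw [Units.val_pow_eq_pow_val, diagOf_val, Matrix.diagonal_pow, Units.val_one, ← Matrix.diagonal_one]
  congr 1
  funext i
  show ((z : F) ^ (e i).val) ^ r = 1
  rw [← pow_mul, mul_comm, pow_mul, ← Units.val_pow_eq_pow_val, hz, Units.val_one, one_pow]

omit [Fintype F] [NeZero (r : F)] in
theorem sc_mul_diagOf {z : Fˣ} (hz : z ^ r = 1) (k : ZMod r) (e : Fin n → ZMod r) :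
    sc n F (z ^ k.val) * diagOf n z e = diagOf n z (fun i => k + e i) := by
  refine Units.ext ?_
  rw [Units.val_mul, sc_val, diagOf_val, diagOf_val, Matrix.scalar_apply, Matrix.diagonal_mul_diagonal,
    Units.val_pow_eq_pow_val]
  simp only [pow_val_add hz]

omit [Fintype F] [NeZero (r : F)] in
theorem diagOf_const (z : Fˣ) (k : ZMod r) :
    diagOf n z (fun _ => k) = sc n F (z ^ k.val) := by
  refine Units.ext ?_
  rw [sc_val, diagOf_val, Matrix.scalar_apply, Units.val_pow_eq_pow_val]

theorem mult_diagOf {z : Fˣ} (hz : ∀ j : ZMod r, algebraMap F (Clo F) ((z : F) ^ j.val) = root F r j)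
    (e : Fin n → ZMod r) (j : ZMod r) :
    mult F r (diagOf n z e : Matrix (Fin n) (Fin n) F) j = (Finset.univ.filter fun i => e i = j).card := by
  classical
  have h1 : eig F (diagOf n z e : Matrix (Fin n) (Fin n) F) = Finset.univ.val.map fun i => root F r (e i) := by
    rw [eig, diagOf_val, Matrix.charpoly_diagonal, Polynomial.map_prod]
    simp only [Polynomial.map_sub, map_X, map_C, hz]
    refine (congrArg roots ?_).trans (roots_multiset_prod_X_sub_C (Finset.univ.val.map fun i => root F r (e i)))
    rw [Multiset.map_map]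
    rfl
  rw [mult, h1, Multiset.count_map]
  show ((Finset.univ.filter fun i => root F r j = root F r (e i))).card = _
  refine congrArg Finset.card (Finset.filter_congr fun i _ => ?_)
  exact ⟨fun h => (root_injective F r h).symm, fun h => by rw [h]⟩

omit [Fact r.Prime] in
theorem exists_tuple [NeZero r] (m : ZMod r → ℕ) (hm : ∑ j, m j = n) :
    ∃ e : Fin n → ZMod r, ∀ j, (Finset.univ.filter fun i => e i = j).card = m j := by
  classical
  let E : Fin n ≃ Σ j : ZMod r, Fin (m j) := (Fintype.equivFinOfCardEq (by simp [hm])).symm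
  refine ⟨fun i => (E i).1, fun j => ?_⟩
  calc (Finset.univ.filter fun i => (E i).1 = j).card
      = (Finset.univ.filter fun x : Σ j : ZMod r, Fin (m j) => x.1 = j).card :=
        Finset.card_equiv E (fun i => by simp)
    _ = Fintype.card {x : Σ j : ZMod r, Fin (m j) // x.1 = j} := (Fintype.card_subtype _).symm
    _ = m j := by rw [Fintype.card_congr (Equiv.sigmaSubtype j), Fintype.card_fin]

/-- A matrix with `g ^ r = 1` is conjugate to a diagonal one. -/
theorem exists_diag {z : Fˣ} (hzr : z ^ r = 1)
    (hz : ∀ j : ZMod r, algebraMap F (Clo F) ((z : F) ^ j.val) = root F r j) {g : GL (Fin n) F} (hg : g ^ r = 1) :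
    ∃ e : Fin n → ZMod r, IsConj g (diagOf n z e) ∧
      ∀ j, mult F r (g : Matrix (Fin n) (Fin n) F) j = (Finset.univ.filter fun i => e i = j).card := by
  have hsum := sum_mult F r (M := (g : Matrix (Fin n) (Fin n) F))
    (by rw [← Units.val_pow_eq_pow_val, hg, Units.val_one])
  rw [Fintype.card_fin] at hsum
  obtain ⟨e, he⟩ := exists_tuple _ hsum
  refine ⟨e, isConj_of_mult_eq F r hg (diagOf_pow hzr e) ?_, fun j => (he j).symm⟩
  funext j
  rw [mult_diagOf hz, he]

variable (r n)

/-- Tuples of multiplicities with no entry equal to the total. -/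
abbrev Tup [NeZero r] : Type := {m : ZMod r → ℕ // (∑ j, m j = n) ∧ ∀ j, m j < n}

instance shiftAction [NeZero r] : MulAction (Multiplicative (ZMod r)) (Tup r n) where
  smul k m := ⟨fun j => m.1 (j - Multiplicative.toAdd k), by
    exact (Equiv.sum_comp (Equiv.subRight (Multiplicative.toAdd k)) m.1).trans m.2.1, fun j => m.2.2 _⟩
  one_smul m := Subtype.ext (funext fun j => congrArg m.1 (sub_zero j))
  mul_smul a b m := Subtype.ext (funext fun j => congrArg m.1 (sub_sub j _ _).symm)

theorem smul_val [NeZero r] (k : Multiplicative (ZMod r)) (m : Tup r n) (j : ZMod r) :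
    (k • m).1 j = m.1 (j - Multiplicative.toAdd k) := rfl

instance finite_tup [NeZero r] : Finite (Tup r n) :=
  Finite.of_injective (fun m : Tup r n => fun j => (⟨m.1 j, m.2.2 j⟩ : Fin n))
    (fun a b h => Subtype.ext (funext fun j => Fin.val_eq_of_eq (congrFun h j)))

omit [Fact r.Prime] in
theorem card_tup [NeZero r] (hn : 1 ≤ n) :
    Nat.card (Tup r n) = (n + r - 1).choose (r - 1) - r := by
  classical
  have : Fintype {m : ZMod r → ℕ // ∑ j, m j = n} :=
    Fintype.ofEquiv _ (Sym.equivNatSumOfFintype (ZMod r) n)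
  have hex : Nat.card {m : {m : ZMod r → ℕ // ∑ j, m j = n} // ¬ ∀ j, m.1 j < n} = r := by
    conv_rhs => rw [← ZMod.card r, ← Nat.card_eq_fintype_card]
    symm
    refine Nat.card_congr (Equiv.ofBijective (fun j => ⟨⟨Pi.single j n, by simp⟩, fun h => ?_⟩) ⟨?_, ?_⟩)
    · have := h j; simp at this
    · intro a b h
      by_contra hab
      have := congrFun (congrArg (fun x => x.1.1) h) a
      simp [Pi.single_eq_of_ne hab] at this
      omega
    · rintro ⟨⟨m, hm⟩, h⟩
      push Not at h
      obtain ⟨j, hj⟩ := h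
      refine ⟨j, Subtype.ext (Subtype.ext (funext fun i => ?_))⟩
      rcases eq_or_ne i j with rfl | hij
      · have := Finset.single_le_sum (fun x _ => Nat.zero_le (m x)) (Finset.mem_univ i)
        simp at hj ⊢; omega
      · have h2 : m i + m j ≤ ∑ x, m x := by
          rw [← Finset.sum_pair hij]
          exact Finset.sum_le_sum_of_subset (Finset.subset_univ _)
        simp [Pi.single_eq_of_ne hij] at hj ⊢; omega
  have e : Tup r n ≃ {m : {m : ZMod r → ℕ // ∑ j, m j = n} // ∀ j, m.1 j < n} :=
    (Equiv.subtypeSubtypeEquivSubtypeInter (fun m : ZMod r → ℕ => ∑ j, m j = n) (fun m => ∀ j, m j < n)).symm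
  have htot : Nat.card {m : ZMod r → ℕ // ∑ j, m j = n} = (n + r - 1).choose (r - 1) := by
    rw [card_sum_eq, ZMod.card, add_comm r n, ← Nat.choose_symm (by have := Nat.pos_of_ne_zero (NeZero.ne r); omega)]
    congr 1
    have := Nat.pos_of_ne_zero (NeZero.ne r); omega
  rw [Nat.card_congr e]
  simp only [Nat.card_eq_fintype_card] at hex htot ⊢
  have hp := Fintype.card_subtype_compl (fun m : {m : ZMod r → ℕ // ∑ j, m j = n} => ∀ j, m.1 j < n)
  have hle := Fintype.card_subtype_le (fun m : {m : ZMod r → ℕ // ∑ j, m j = n} => ∀ j, m.1 j < n)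
  omega

/-- The number of orbits of the shift. -/
theorem card_orbits (hn : 1 ≤ n) :
    Nat.card (MulAction.orbitRel.Quotient (Multiplicative (ZMod r)) (Tup r n)) =
      ((n + r - 1).choose (r - 1) - r - (if r ∣ n then 1 else 0)) / r + (if r ∣ n then 1 else 0) := by
  classical
  have hr2 := (Fact.out : r.Prime).two_le
  have := Fintype.ofFinite (Tup r n)
  have := Fintype.ofFinite (MulAction.orbitRel.Quotient (Multiplicative (ZMod r)) (Tup r n))
  have h := MulAction.sum_card_fixedBy_eq_card_orbits_mul_card_group (Multiplicative (ZMod r)) (Tup r n)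
  rw [Fintype.card_multiplicative, ZMod.card] at h
  set δ := if r ∣ n then 1 else 0 with hδ
  have hfix : ∀ k : Multiplicative (ZMod r), k ≠ 1 →
      Fintype.card (MulAction.fixedBy (Tup r n) k) = δ := by
    intro k hk
    have hk' : Multiplicative.toAdd k ≠ 0 := hk
    have hconst : ∀ m : MulAction.fixedBy (Tup r n) k, ∀ j, m.1.1 j = m.1.1 0 := by
      intro m j
      have h1 : ∀ (t : ℕ) (j : ZMod r), m.1.1 (j - t * Multiplicative.toAdd k) = m.1.1 j := by
        intro t
        induction t with
        | zero => simp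
        | succ t ih =>
          intro j
          rw [← ih j]
          conv_rhs => rw [← m.2, smul_val]
          congr 1
          push_cast; ring
      have h2 := h1 (j * (Multiplicative.toAdd k)⁻¹).val j
      rw [ZMod.natCast_zmod_val, mul_assoc, inv_mul_cancel₀ hk', mul_one, sub_self] at h2
      exact h2.symm
    have hsum : ∀ m : MulAction.fixedBy (Tup r n) k, r * m.1.1 0 = n := by
      intro m
      conv_rhs => rw [← m.1.2.1]
      rw [Finset.sum_congr rfl fun j _ => hconst m j, Finset.sum_const, Finset.card_univ, ZMod.card, smul_eq_mul]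
    rw [hδ]
    split_ifs with hd
    · obtain ⟨s, hs⟩ := hd
      have hlt : s < n := by
        rcases Nat.eq_zero_or_pos s with h0 | h0
        · omega
        · rw [hs]; exact lt_mul_of_one_lt_left h0 hr2
      rw [Fintype.card_eq_one_iff]
      refine ⟨⟨⟨fun _ => s, by simp [hs], fun _ => hlt⟩, rfl⟩, fun m => Subtype.ext (Subtype.ext (funext fun j => ?_))⟩
      rw [hconst m j]
      exact Nat.eq_of_mul_eq_mul_left (by omega : 0 < r) ((hsum m).trans hs)
    · rw [Fintype.card_eq_zero_iff]
      exact ⟨fun m => hd ⟨_, (hsum m).symm⟩⟩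
  rw [← Finset.add_sum_erase _ _ (Finset.mem_univ (1 : Multiplicative (ZMod r))),
    Finset.sum_congr rfl (fun k hk => hfix k (Finset.ne_of_mem_erase hk)), Finset.sum_const, smul_eq_mul,
    Finset.card_erase_of_mem (Finset.mem_univ _), Finset.card_univ, Fintype.card_multiplicative, ZMod.card] at h
  have h1 : Fintype.card (MulAction.fixedBy (Tup r n) (1 : Multiplicative (ZMod r))) = Nat.card (Tup r n) := by
    rw [Nat.card_eq_fintype_card]
    exact Fintype.card_congr ⟨fun m => m.1, fun m => ⟨m, one_smul _ m⟩, fun _ => rfl, fun _ => rfl⟩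
  rw [h1, card_tup r n hn] at h
  rw [Nat.card_eq_fintype_card]
  generalize (n + r - 1).choose (r - 1) - r = T at h ⊢
  generalize Fintype.card (MulAction.orbitRel.Quotient (Multiplicative (ZMod r)) (Tup r n)) = O at h ⊢
  rw [hδ] at h ⊢
  clear_value δ
  split_ifs at h ⊢
  · rcases O with _ | o
    · omega
    · rw [Nat.add_mul, one_mul] at h
      rw [show T - 1 = o * r by omega, Nat.mul_div_cancel _ (by omega)]
  · rw [show T - 0 = O * r by omega, Nat.mul_div_cancel _ (by omega), Nat.add_zero]

end CfsgLib.ProjClass
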