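import Mathlib
import Cfsg.Agent.Lib.ProjClass.Diag

/-!
Classes of elements of prime order `r` in a linear group modulo its scalars, `r` dividing the number of scalars.
-/

set_option autoImplicit false

namespace CfsgLib.ProjClass

open Polynomial CfsgLib.RootCount

variable {F : Type*} [Field F] [Fintype F] {r n : ℕ} [Fact r.Prime]

omit [Fintype F] [Fact r.Prime] in
theorem sc_injective (hn : 1 ≤ n) : Function.Injective (sc n F) := fun a b h => by
  have : Nonempty (Fin n) := ⟨⟨0, hn⟩⟩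
  exact Units.ext (Matrix.scalar_inj.1 (congrArg Units.val h :))

theorem neZero_cast (h : r ∣ Fintype.card F - 1) : NeZero (r : F) := by
  constructor
  intro h0
  obtain ⟨p, hp⟩ := CharP.exists F
  obtain ⟨k, hpp, hk⟩ := FiniteField.card F p
  have hrp : r = p := ((Nat.prime_dvd_prime_iff_eq hpp (Fact.out : r.Prime)).1
    ((CharP.cast_eq_zero_iff F p r).1 h0)).symm
  subst hrp
  rw [hk] at h
  have h1 : r ∣ r ^ (k : ℕ) := dvd_pow_self r k.pos.ne'
  have h2 := Nat.dvd_sub h1 h
  rw [Nat.sub_sub_self (Nat.one_le_pow _ _ hpp.pos)] at h2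
  exact hpp.one_lt.ne' (Nat.dvd_one.1 h2)

/-- The count of classes of elements of order `r` in `G` modulo its centre. -/
theorem card_classes {G : Type*} [Group G] [Finite G] (f : G →* GL (Fin n) F) (hinj : Function.Injective f)
    (hn : 1 ≤ n) (S : Subgroup Fˣ) (hsat : ∀ z : Fˣ, z ^ r ∈ S → z ∈ S) (hrS : r ∣ Nat.card S)
    (hcen : ∀ a : G, a ∈ Subgroup.center G ↔ ∃ c ∈ S, f a = sc n F c)
    (hscal : ∀ c ∈ S, ∃ a : G, f a = sc n F c)
    (hconj : ∀ a b : G, IsConj (f a) (f b) → IsConj a b)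
    (hmeet : ∀ g : GL (Fin n) F, ∀ c ∈ S, g ^ r = sc n F c → ∃ a : G, IsConj (f a) g) :
    Nat.card {C : ConjClasses (G ⧸ Subgroup.center G) //
        ∃ g : G ⧸ Subgroup.center G, ConjClasses.mk g = C ∧ orderOf g = r} =
      ((n + r - 1).choose (r - 1) - r - (if r ∣ n then 1 else 0)) / r + r * (if r ∣ n then 1 else 0) := by
  classical
  have hrp : r.Prime := Fact.out
  have hrq : r ∣ Fintype.card F - 1 := by
    rw [← Fintype.card_units, ← Nat.card_eq_fintype_card]
    exact hrS.trans (Subgroup.card_subgroup_dvd_card S)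
  haveI := neZero_cast hrq
  obtain ⟨z, hzr, hz⟩ := exists_root_preimage (F := F) (r := r) hrq
  have hzS : ∀ k : ℕ, z ^ k ∈ S := fun k => Subgroup.pow_mem _ (hsat z (by rw [hzr]; exact S.one_mem)) _
  have hroot : ∀ d : Fˣ, d ^ r = 1 → ∃ k : ZMod r, d = z ^ k.val := by
    intro d hd
    obtain ⟨j, hj⟩ := exists_root_eq F r (x := algebraMap F (Clo F) (d : F))
      (by rw [← map_pow, ← Units.val_pow_eq_pow_val, hd, Units.val_one, map_one])
    exact ⟨j, Units.ext ((algebraMap F (Clo F)).injective (by rw [Units.val_pow_eq_pow_val, hz, hj]))⟩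
  set Z := Subgroup.center G
  let π : G →* G ⧸ Z := QuotientGroup.mk' Z
  have hπ : Function.Surjective π := QuotientGroup.mk'_surjective Z
  have hπ1 : ∀ a, π a = 1 ↔ ∃ c ∈ S, f a = sc n F c := fun a => by
    rw [← hcen]; exact QuotientGroup.eq_one_iff a
  have hmk : ∀ a b : G, ConjClasses.mk (π a) = ConjClasses.mk (π b) ↔
      ∃ d ∈ S, IsConj (f a) (sc n F d * f b) := by
    intro a b
    rw [ConjClasses.mk_eq_mk_iff_isConj]
    constructor
    · intro h
      obtain ⟨x, hx⟩ := isConj_iff.1 h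
      obtain ⟨u, rfl⟩ := hπ x
      have h1 : π (b⁻¹ * (u * a * u⁻¹)) = 1 := by
        simp only [map_mul, map_inv, hx, inv_mul_cancel]
      obtain ⟨d, hd, hfd⟩ := (hπ1 _).1 h1
      refine ⟨d, hd, isConj_iff.2 ⟨f u, ?_⟩⟩
      rw [sc_comm, ← hfd, ← map_mul, ← map_mul, ← map_inv, ← map_mul, mul_inv_cancel_left]
    · rintro ⟨d, hd, h⟩
      obtain ⟨w, hw⟩ := hscal d hd
      have h2 : IsConj (π a) (π (w * b)) := π.map_isConj (hconj a (w * b) (by rw [map_mul, hw]; exact h))
      rwa [map_mul, (hπ1 w).2 ⟨d, hd, hw⟩, one_mul] at h2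
  have hpow : ∀ a : G, ∀ d c : Fˣ, ∀ g : GL (Fin n) F, IsConj (f a) (sc n F d * g) → g ^ r = sc n F c →
      f a ^ r = sc n F (d ^ r * c) := by
    intro a d c g h hg
    obtain ⟨u, hu⟩ := isConj_iff.1 h
    rw [show f a = u⁻¹ * (sc n F d * g) * u by rw [← hu]; group]
    have h2 := conj_pow (a := u⁻¹) (b := sc n F d * g) (i := r)
    rw [inv_inv] at h2
    rw [h2, (show Commute (sc n F d) g from sc_comm d g).mul_pow, hg, ← map_pow, ← map_mul, mul_assoc,
      sc_comm, ← mul_assoc, inv_mul_cancel, one_mul]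
  -- the cosets of the `r`-th powers
  let R : Subgroup S := (powMonoidHom r : S →* S).range
  have hR : ∀ c : S, (c : S ⧸ R) = 1 ↔ ∃ u : Fˣ, u ^ r = (c : Fˣ) := by
    intro c
    rw [QuotientGroup.eq_one_iff]
    constructor
    · rintro ⟨d, hd⟩; exact ⟨d, congrArg Subtype.val hd⟩
    · rintro ⟨u, hu⟩
      exact ⟨⟨u, hsat u (hu ▸ c.2)⟩, Subtype.ext hu⟩
  have hcardR : Nat.card (S ⧸ R) = r := by
    have h1 := Subgroup.card_eq_card_quotient_mul_card_subgroup R
    rw [IsCyclic.card_powMonoidHom_range, Nat.gcd_eq_right hrS] at h1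
    obtain ⟨m, hm⟩ := hrS
    have hm0 : 0 < m := by
      rcases Nat.eq_zero_or_pos m with h0 | h0
      · rw [h0, mul_zero] at hm; exact absurd hm Nat.card_pos.ne'
      · exact h0
    rw [hm, Nat.mul_div_cancel_left _ hrp.pos] at h1
    exact (Nat.eq_of_mul_eq_mul_right hm0 h1).symm
  let Y₂ := {κ : S ⧸ R // κ ≠ 1 ∧ r ∣ n}
  have hY₂ : Nat.card Y₂ = (r - 1) * (if r ∣ n then 1 else 0) := by
    have := Fintype.ofFinite (S ⧸ R)
    split_ifs with hd
    · rw [mul_one, Nat.card_congr (Equiv.subtypeEquivRight (fun κ => and_iff_left hd)),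
        Nat.card_eq_fintype_card, Fintype.card_subtype_compl, Fintype.card_subtype_eq,
        ← Nat.card_eq_fintype_card, hcardR]
    · rw [mul_zero, Nat.card_eq_fintype_card, Fintype.card_eq_zero_iff]
      exact ⟨fun κ => hd κ.2.2⟩
  let Y₁ := MulAction.orbitRel.Quotient (Multiplicative (ZMod r)) (Tup r n)
  -- representatives
  have key₁ : ∀ o : Y₁, ∃ (a : G) (e : Fin n → ZMod r), IsConj (f a) (diagOf n z e) ∧
      ∀ j, (Quotient.out o : Tup r n).1 j = (Finset.univ.filter fun i => e i = j).card := by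
    intro o
    obtain ⟨e, he⟩ := exists_tuple (Quotient.out o : Tup r n).1 (Quotient.out o : Tup r n).2.1
    obtain ⟨a, ha⟩ := hmeet (diagOf n z e) 1 S.one_mem (by rw [diagOf_pow hzr, map_one])
    exact ⟨a, e, ha, fun j => (he j).symm⟩
  choose A₁ E₁ hA₁ hE₁ using key₁
  have key₂ : ∀ κ : Y₂, ∃ a : G, f a ^ r = sc n F ((Quotient.out κ.1 : S) : Fˣ) := by
    intro κ
    have hnot : ∀ u : Fˣ, u ^ r ≠ ((Quotient.out κ.1 : S) : Fˣ) := fun u hu =>
      κ.2.1 (by rw [← QuotientGroup.out_eq' κ.1]; exact (hR _).2 ⟨u, hu⟩)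
    obtain ⟨g, hg⟩ := exists_pow_eq (n := n) hrp hnot κ.2.2
    obtain ⟨a, ha⟩ := hmeet g _ (Quotient.out κ.1 : S).2 hg
    refine ⟨a, ?_⟩
    have h := hpow a 1 _ g (by rwa [map_one, one_mul]) hg
    rwa [one_pow, one_mul] at h
  choose A₂ hA₂ using key₂
  have hord : ∀ a : G, (∃ c ∈ S, f a ^ r = sc n F c) → (¬ ∃ c ∈ S, f a = sc n F c) → orderOf (π a) = r := by
    rintro a ⟨c, hc, h1⟩ h2
    refine orderOf_eq_prime ?_ fun h => h2 ((hπ1 a).1 h)
    rw [← map_pow]
    exact (hπ1 _).2 ⟨c, hc, by rw [map_pow, h1]⟩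
  have hfA₁ : ∀ o, f (A₁ o) ^ r = 1 := fun o => by
    have h := hpow (A₁ o) 1 1 (diagOf n z (E₁ o)) (by rw [map_one, one_mul]; exact hA₁ o)
      (by rw [diagOf_pow hzr, map_one])
    rwa [one_pow, one_mul, map_one] at h
  have hns₁ : ∀ o, ¬ ∃ c ∈ S, f (A₁ o) = sc n F c := by
    rintro o ⟨c, -, hc⟩
    have h1 := hfA₁ o
    rw [hc, ← map_pow, ← map_one (sc n F)] at h1
    obtain ⟨k, rfl⟩ := hroot c (sc_injective hn h1)
    have hm := mult_diagOf hz (fun _ : Fin n => k) k
    obtain ⟨u, hu⟩ := isConj_iff.1 (hA₁ o)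
    rw [diagOf_const, ← hc] at hm
    have h2 := mult_diagOf hz (E₁ o) k
    rw [← hu, Units.val_mul, Units.val_mul, mult_units_conj, hm, ← hE₁ o] at h2
    have := (Quotient.out o : Tup r n).2.2 k
    simp at h2
    omega
  have hns₂ : ∀ κ, ¬ ∃ c ∈ S, f (A₂ κ) = sc n F c := by
    rintro κ ⟨c, -, hc⟩
    have h1 := hA₂ κ
    rw [hc, ← map_pow] at h1
    exact κ.2.1 (by rw [← QuotientGroup.out_eq' κ.1]; exact (hR _).2 ⟨c, sc_injective hn h1⟩)
  let Ψ : Y₁ ⊕ Y₂ → {C : ConjClasses (G ⧸ Z) // ∃ g : G ⧸ Z, ConjClasses.mk g = C ∧ orderOf g = r} :=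
    Sum.elim
      (fun o => ⟨_, π (A₁ o), rfl, hord _ ⟨1, S.one_mem, by rw [hfA₁, map_one]⟩ (hns₁ o)⟩)
      (fun κ => ⟨_, π (A₂ κ), rfl, hord _ ⟨_, (Quotient.out κ.1 : S).2, hA₂ κ⟩ (hns₂ κ)⟩)
  have hshift : ∀ (k : ZMod r) (e e' : Fin n → ZMod r), IsConj (diagOf n z e) (sc n F (z ^ k.val) * diagOf n z e') →
      ∀ j, (Finset.univ.filter fun i => e i = j).card = (Finset.univ.filter fun i => e' i = j - k).card := by
    intro k e e' h j
    obtain ⟨u, hu⟩ := isConj_iff.1 h
    rw [sc_mul_diagOf hzr] at hu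
    have h2 := mult_diagOf hz (fun i => k + e' i) j
    rw [← hu, Units.val_mul, Units.val_mul, mult_units_conj, mult_diagOf hz] at h2
    rw [h2]
    refine congrArg Finset.card (Finset.filter_congr fun i _ => ?_)
    exact ⟨fun h => by rw [← h, add_sub_cancel_left], fun h => by rw [h, add_sub_cancel]⟩
  have hbij : Function.Bijective Ψ := by
    constructor
    · intro y y' hyy
      have h0 : (Ψ y).1 = (Ψ y').1 := congrArg Subtype.val hyy
      rcases y with o | κ <;> rcases y' with o' | κ' <;>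
        simp only [Ψ, Sum.elim_inl, Sum.elim_inr] at h0 <;>
        obtain ⟨d, hd, hc⟩ := (hmk _ _).1 h0
      · have h1 := hpow _ d 1 _ hc (by rw [hfA₁, map_one])
        rw [hfA₁, mul_one, ← map_one (sc n F)] at h1
        obtain ⟨k, rfl⟩ := hroot d (sc_injective hn h1).symm
        have h2 : IsConj (sc n F (z ^ k.val) * f (A₁ o')) (sc n F (z ^ k.val) * diagOf n z (E₁ o')) := by
          obtain ⟨u, hu⟩ := isConj_iff.1 (hA₁ o')
          exact isConj_iff.2 ⟨u, by rw [← hu, ← mul_assoc u, ← sc_comm]; simp only [mul_assoc]⟩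
        have h3 := hshift k _ _ (((hA₁ o).symm.trans hc).trans h2)
        refine congrArg Sum.inl ?_
        rw [← Quotient.out_eq o, ← Quotient.out_eq o']
        refine Quotient.sound (MulAction.orbitRel_apply.2 ⟨Multiplicative.ofAdd k, Subtype.ext (funext fun j => ?_)⟩)
        show ((Multiplicative.ofAdd k) • (Quotient.out o' : Tup r n)).1 j = _
        rw [smul_val, hE₁, hE₁, h3]
        rfl
      · have h1 := hpow _ d _ _ hc (hA₂ κ')
        rw [hfA₁, ← map_one (sc n F)] at h1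
        refine absurd ?_ κ'.2.1
        rw [← QuotientGroup.out_eq' κ'.1]
        refine (hR _).2 ⟨d⁻¹, ?_⟩
        rw [inv_pow, inv_eq_iff_mul_eq_one]
        exact (sc_injective hn h1).symm
      · have h1 := hpow _ d 1 _ hc (by rw [hfA₁, map_one])
        rw [hA₂, mul_one] at h1
        refine absurd ?_ κ.2.1
        rw [← QuotientGroup.out_eq' κ.1]
        exact (hR _).2 ⟨d, (sc_injective hn h1).symm⟩
      · have h1 := hpow _ d _ _ hc (hA₂ κ')
        rw [hA₂] at h1
        refine congrArg Sum.inr (Subtype.ext ?_)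
        rw [← QuotientGroup.out_eq' κ.1, ← QuotientGroup.out_eq' κ'.1]
        refine (QuotientGroup.eq.2 (MonoidHom.mem_range.2 ⟨⟨d, hd⟩, Subtype.ext ?_⟩)).symm
        show d ^ r = ((Quotient.out κ'.1 : S) : Fˣ)⁻¹ * ((Quotient.out κ.1 : S) : Fˣ)
        rw [sc_injective hn h1, mul_comm (d ^ r), inv_mul_cancel_left]
    · rintro ⟨C, x, rfl, hx⟩
      obtain ⟨a, rfl⟩ := hπ x
      have h1 : π (a ^ r) = 1 := by rw [map_pow, ← hx, pow_orderOf_eq_one]
      obtain ⟨c, hcS, hc⟩ := (hπ1 _).1 h1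
      rw [map_pow] at hc
      have hns : ¬ ∃ d ∈ S, f a = sc n F d := fun h => by
        rw [(hπ1 a).2 h, orderOf_one] at hx; exact hrp.one_lt.ne hx
      by_cases hcpow : ∃ u : Fˣ, u ^ r = c
      · obtain ⟨u, hu⟩ := hcpow
        have huS : u ∈ S := hsat u (hu ▸ hcS)
        have hb : (sc n F u⁻¹ * f a) ^ r = 1 := by
          rw [(show Commute (sc n F u⁻¹) (f a) from sc_comm _ _).mul_pow, hc, ← map_pow, ← map_mul, inv_pow,
            hu, inv_mul_cancel, map_one]
        obtain ⟨e, he, hem⟩ := exists_diag hzr hz hb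
        have hlt : ∀ j, (Finset.univ.filter fun i => e i = j).card < n := by
          intro j
          refine lt_of_le_of_ne ((Finset.card_filter_le _ _).trans (le_of_eq (Finset.card_fin n))) fun hj => ?_
          have hall : ∀ i, e i = j := by
            intro i
            have := Finset.eq_univ_of_card _ (hj.trans (Fintype.card_fin n).symm)
            have h2 : i ∈ Finset.univ.filter fun i => e i = j := by rw [this]; exact Finset.mem_univ i
            exact (Finset.mem_filter.1 h2).2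
          rw [show e = fun _ => j from funext hall, diagOf_const] at he
          obtain ⟨w, hw⟩ := isConj_iff.1 he.symm
          rw [← sc_comm, mul_assoc, mul_inv_cancel, mul_one] at hw
          refine hns ⟨u * z ^ j.val, S.mul_mem huS (hzS _), ?_⟩
          rw [map_mul, hw, ← mul_assoc, ← map_mul, mul_inv_cancel, map_one, one_mul]
        have hsum : ∑ j, (Finset.univ.filter fun i => e i = j).card = n := by
          rw [← Finset.card_eq_sum_card_fiberwise (fun i _ => Finset.mem_univ (e i)), Finset.card_fin]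
        let m : Tup r n := ⟨fun j => (Finset.univ.filter fun i => e i = j).card, hsum, hlt⟩
        refine ⟨Sum.inl (Quotient.mk'' m), Subtype.ext ((hmk _ _).2 ?_)⟩
        set o : Y₁ := Quotient.mk'' m
        obtain ⟨k, hk⟩ := MulAction.orbitRel_apply.1 (Quotient.exact' (Quotient.out_eq o))
        refine ⟨z ^ (Multiplicative.toAdd k).val * u⁻¹, S.mul_mem (hzS _) (S.inv_mem huS), ?_⟩
        rw [map_mul, mul_assoc]
        refine (hA₁ o).trans ?_
        have h3 : IsConj (diagOf n z (E₁ o)) (diagOf n z fun i => Multiplicative.toAdd k + e i) :=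
          isConj_of_mult_eq F r (diagOf_pow hzr _) (diagOf_pow hzr _) (funext fun j => by
            rw [mult_diagOf hz, mult_diagOf hz, ← hE₁, ← hk]
            show (Finset.univ.filter fun i => e i = j - Multiplicative.toAdd k).card = _
            refine congrArg Finset.card (Finset.filter_congr fun i _ => ?_)
            exact ⟨fun h => by rw [h, add_sub_cancel], fun h => by rw [← h, add_sub_cancel_left]⟩)
        rw [← sc_mul_diagOf hzr] at h3
        refine h3.trans ?_
        obtain ⟨w, hw⟩ := isConj_iff.1 he.symm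
        exact isConj_iff.2 ⟨w, by rw [← hw, ← mul_assoc w, ← sc_comm]; simp only [mul_assoc]⟩
      · push Not at hcpow
        have hd := dvd_of_pow_eq hrp hcpow hc
        have hne : ((⟨c, hcS⟩ : S) : S ⧸ R) ≠ 1 := fun h => by
          obtain ⟨u, hu⟩ := (hR _).1 h; exact hcpow u hu
        set κ : Y₂ := ⟨_, hne, hd⟩
        refine ⟨Sum.inr κ, Subtype.ext ((hmk _ _).2 ?_)⟩
        have hq : ((Quotient.out κ.1 : S) : S ⧸ R) = ((⟨c, hcS⟩ : S) : S ⧸ R) := QuotientGroup.out_eq' κ.1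
        obtain ⟨d, hd'⟩ := QuotientGroup.eq.1 hq.symm
        refine ⟨(d : Fˣ), d.2, ?_⟩
        have hnot : ∀ u : Fˣ, u ^ r ≠ ((Quotient.out κ.1 : S) : Fˣ) := fun u hu =>
          κ.2.1 (by rw [← QuotientGroup.out_eq' κ.1]; exact (hR _).2 ⟨u, hu⟩)
        refine isConj_of_pow_eq hrp hnot (hA₂ κ) ?_
        have h5 : (d : Fˣ) ^ r = c⁻¹ * ((Quotient.out κ.1 : S) : Fˣ) := congrArg Subtype.val hd'
        rw [(show Commute (sc n F (d : Fˣ)) (f a) from sc_comm _ _).mul_pow, hc, ← map_pow, ← map_mul, h5,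
          mul_comm (c⁻¹), mul_assoc, inv_mul_cancel, mul_one]
  rw [← Nat.card_congr (Equiv.ofBijective Ψ hbij), Nat.card_sum, card_orbits r n hn, hY₂, add_assoc]
  congr 1
  rw [Nat.sub_mul, one_mul, Nat.add_sub_cancel' (Nat.le_mul_of_pos_left _ hrp.pos)]

end CfsgLib.ProjClass
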