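import Mathlib
import Cfsg.Agent.Lib.ProjClass.Main
import Cfsg.Agent.Lib.Conj.Unitary
import Cfsg.Agent.Lib.Classical.Herm.Field

/-!
Classes of elements of prime order `r ∣ q + 1` in projective unitary groups.
-/

set_option autoImplicit false

namespace CfsgLib.ProjClass

open Polynomial CfsgLib.RootCount CfsgLib.Conj

variable {K : Type*} [Field K] [Fintype K] {q n r : ℕ} [Fact r.Prime]

theorem card_classes_pgu (hK : Fintype.card K = q ^ 2) (hn : 1 ≤ n) (hr2 : r ≠ 2) (hrq : r ∣ q + 1) :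
    Nat.card {C : ConjClasses (↥(Cfsg.GU n K q) ⧸ Subgroup.center ↥(Cfsg.GU n K q)) //
        ∃ g : ↥(Cfsg.GU n K q) ⧸ Subgroup.center ↥(Cfsg.GU n K q), ConjClasses.mk g = C ∧ orderOf g = r} =
      ((n + r - 1).choose (r - 1) - r - (if r ∣ n then 1 else 0)) / r + r * (if r ∣ n then 1 else 0) := by
  classical
  have hrp : r.Prime := Fact.out
  have hq : 2 ≤ q := CfsgLib.Classical.Herm.two_le_of_card hK
  obtain ⟨φ, hφq, hφ, hw⟩ := exists_frob hK
  let S : Subgroup Kˣ := (powMonoidHom (q + 1) : Kˣ →* Kˣ).ker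
  have hSmem : ∀ c : Kˣ, c ∈ S ↔ c ^ (q + 1) = 1 := fun c => Iff.rfl
  have hSφ : ∀ c : Kˣ, c ∈ S → φ (c : K) * (c : K) = 1 := fun c hc => by
    rw [hφq, ← pow_succ, ← Units.val_pow_eq_pow_val, (hSmem c).1 hc, Units.val_one]
  have hcardS : Nat.card S = q + 1 := CfsgLib.Classical.Herm.card_normOne_units hK
  have hsat : ∀ z : Kˣ, z ^ r ∈ S → z ∈ S := by
    intro z hz
    rw [hSmem, ← pow_mul] at hz
    have h2 : z ^ ((q + 1) * (q - 1)) = 1 := by
      rw [← Nat.sq_sub_sq, one_pow, ← hK, ← Fintype.card_units, pow_card_eq_one]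
    have hcop : r.Coprime (q - 1) := by
      rw [hrp.coprime_iff_not_dvd]
      intro h
      have h3 := Nat.dvd_sub hrq h
      rw [show q + 1 - (q - 1) = 2 by omega] at h3
      exact hr2 ((Nat.prime_dvd_prime_iff_eq hrp Nat.prime_two).1 h3)
    have h4 : (z ^ (q + 1)) ^ r.gcd (q - 1) = 1 :=
      pow_gcd_eq_one.2 ⟨by rwa [← pow_mul, mul_comm], by rwa [← pow_mul]⟩
    rw [hcop, pow_one] at h4
    exact h4
  have hdiag : ∀ u : Fin n → Kˣ, (∀ i, u i ∈ S) →
      Units.map (Matrix.diagonalRingHom (Fin n) K).toMonoidHom (MulEquiv.piUnits.symm u) ∈ Cfsg.GU n K q := by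
    intro u hu
    rw [mem_GU_iff φ hφq hφ]
    show ((Matrix.diagonal fun i => (u i : K)).map φ).transpose * Matrix.diagonal (fun i => (u i : K)) = 1
    rw [Matrix.diagonal_map (map_zero φ), Matrix.diagonal_transpose, Matrix.diagonal_mul_diagonal,
      ← Matrix.diagonal_one]
    exact congrArg Matrix.diagonal (funext fun i => hSφ _ (hu i))
  have hsc : ∀ c ∈ S, sc n K c ∈ Cfsg.GU n K q := fun c hc => by
    have h : sc n K c = Units.map (Matrix.diagonalRingHom (Fin n) K).toMonoidHom (MulEquiv.piUnits.symm fun _ => c) := by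
      refine Units.ext ?_
      rw [sc_val, Matrix.scalar_apply]
      rfl
    rw [h]; exact hdiag _ fun _ => hc
  have hperm : ∀ π : Equiv.Perm (Fin n), ∃ P : ↥(Cfsg.GU n K q), ∀ x : Fin n → K,
      (P.1 : Matrix (Fin n) (Fin n) K).mulVec x = x ∘ π := by
    intro π
    refine ⟨⟨⟨π.toPEquiv.toMatrix, π.symm.toPEquiv.toMatrix, ?_, ?_⟩, ?_⟩,
      PEquiv.toMatrix_toPEquiv_mulVec π⟩
    · rw [← PEquiv.toMatrix_trans, ← Equiv.toPEquiv_trans]; simp [PEquiv.toMatrix_refl]
    · rw [← PEquiv.toMatrix_trans, ← Equiv.toPEquiv_trans]; simp [PEquiv.toMatrix_refl]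
    · rw [mem_GU_iff φ hφq hφ]
      show ((π.toPEquiv.toMatrix : Matrix (Fin n) (Fin n) K).map φ).transpose * π.toPEquiv.toMatrix = 1
      rw [show (π.toPEquiv.toMatrix : Matrix (Fin n) (Fin n) K).map φ = π.toPEquiv.toMatrix from by
          ext i j; simp [PEquiv.toMatrix_apply, apply_ite φ],
        ← PEquiv.toMatrix_symm, ← Equiv.toPEquiv_symm, ← PEquiv.toMatrix_trans, ← Equiv.toPEquiv_trans]
      simp [PEquiv.toMatrix_refl]
  obtain ⟨ζ, hζ, hζ1⟩ : ∃ ζ : Kˣ, ζ ∈ S ∧ ζ ≠ 1 := by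
    by_contra h
    push Not at h
    have : Subsingleton S := ⟨fun a b => Subtype.ext ((h _ a.2).trans (h _ b.2).symm)⟩
    have := Finite.card_le_one_iff_subsingleton.mpr this
    omega
  refine card_classes (Cfsg.GU n K q).subtype Subtype.val_injective hn S hsat (hcardS.symm ▸ hrq) ?_
    (fun c hc => ⟨⟨_, hsc c hc⟩, rfl⟩) ?_ ?_
  · intro a
    constructor
    · intro ha
      set M := ((a : GL (Fin n) K) : Matrix (Fin n) (Fin n) K)
      have hoff : ∀ i j, i ≠ j → M i j = 0 := by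
        intro i j hij
        let u : Fin n → Kˣ := Pi.mulSingle i ζ
        let D : ↥(Cfsg.GU n K q) := ⟨_, hdiag u (fun l => by
          by_cases hl : l = i
          · subst hl; simpa [u] using hζ
          · simp [u, hl])⟩
        have hD : (D.1 : Matrix (Fin n) (Fin n) K) = Matrix.diagonal fun l => (u l : K) := rfl
        have h := congrArg (fun g : ↥(Cfsg.GU n K q) => (g.1 : Matrix (Fin n) (Fin n) K) i j)
          (Subgroup.mem_center_iff.1 ha D)
        simp only [Subgroup.coe_mul, Units.val_mul, hD, Matrix.diagonal_mul, Matrix.mul_diagonal] at h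
        simp only [u, Pi.mulSingle_eq_same, Pi.mulSingle_eq_of_ne (Ne.symm hij), Units.val_one, mul_one] at h
        have h2 : ((ζ : K) - 1) * M i j = 0 := by linear_combination h
        exact (mul_eq_zero.1 h2).resolve_left (sub_ne_zero.2 fun h0 => hζ1 (Units.ext h0))
      have hd : ∀ i j, M i i = M j j := by
        intro i j
        obtain ⟨P, hP⟩ := hperm (Equiv.swap i j)
        have h := congrArg (fun g : ↥(Cfsg.GU n K q) => ((g.1 : Matrix (Fin n) (Fin n) K).mulVec (Pi.single j 1)) i)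
          (Subgroup.mem_center_iff.1 ha P)
        simp only [Subgroup.coe_mul, Units.val_mul, ← Matrix.mulVec_mulVec, hP] at h
        have hsing : ((Pi.single j 1 : Fin n → K) ∘ (Equiv.swap i j)) = Pi.single i 1 := by
          funext l
          simp only [Function.comp_apply, Pi.single_apply]
          refine if_congr ?_ rfl rfl
          rw [Equiv.apply_eq_iff_eq_symm_apply, Equiv.symm_swap, Equiv.swap_apply_right]
        simp only [Function.comp_apply, Equiv.swap_apply_left, hsing, Matrix.mulVec_single_one, Matrix.col_apply] at h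
        exact h.symm
      have hMdiag : M = Matrix.diagonal fun _ => M ⟨0, hn⟩ ⟨0, hn⟩ := by
        ext i j
        rcases eq_or_ne i j with rfl | h
        · rw [Matrix.diagonal_apply_eq]; exact hd _ _
        · rw [Matrix.diagonal_apply_ne _ h, hoff _ _ h]
      set x := M ⟨0, hn⟩ ⟨0, hn⟩
      have hx := congrFun (congrFun ((mem_GU_iff φ hφq hφ _).1 a.2) ⟨0, hn⟩) ⟨0, hn⟩
      change ((M.map φ).transpose * M) ⟨0, hn⟩ ⟨0, hn⟩ = _ at hx
      rw [hMdiag, Matrix.diagonal_map (map_zero φ), Matrix.diagonal_transpose, Matrix.diagonal_mul_diagonal,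
        Matrix.diagonal_apply_eq, Matrix.one_apply_eq, hφq] at hx
      have hx0 : x ≠ 0 := fun h => by rw [h] at hx; simp at hx
      refine ⟨Units.mk0 x hx0, (hSmem _).2 (Units.ext ?_), Units.ext ?_⟩
      · rw [Units.val_pow_eq_pow_val, Units.val_mk0, Units.val_one, pow_succ]; exact hx
      · rw [sc_val, Units.val_mk0, Matrix.scalar_apply]; exact hMdiag
    · rintro ⟨c, -, hc⟩
      refine Subgroup.mem_center_iff.2 fun b => Subtype.ext ?_
      show b.1 * a.1 = a.1 * b.1
      rw [show a.1 = sc n K c from hc, sc_comm]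
  · intro a b hab
    obtain ⟨g, hg⟩ := isConj_iff.1 hab
    obtain ⟨h, hh, hconj⟩ := exists_unitary_conj φ hφ hw a.1 b.1 g
      ((mem_GU_iff φ hφq hφ _).1 a.2) ((mem_GU_iff φ hφq hφ _).1 b.2) (mul_inv_eq_iff_eq_mul.1 hg)
    exact isConj_iff.2 ⟨⟨h, (mem_GU_iff φ hφq hφ h).2 hh⟩, mul_inv_eq_iff_eq_mul.2 (Subtype.ext hconj)⟩
  · intro g c hc hg
    by_cases hcp : ∃ u : Kˣ, u ^ r = c
    · obtain ⟨u, hu⟩ := hcp
      have huS : u ∈ S := hsat u (hu ▸ hc)
      have hrK : r ∣ Fintype.card K - 1 := by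
        rw [← Fintype.card_units, ← Nat.card_eq_fintype_card]
        exact (hcardS.symm ▸ hrq).trans (Subgroup.card_subgroup_dvd_card S)
      haveI := neZero_cast (F := K) hrK
      obtain ⟨z, hzr, hz⟩ := exists_root_preimage (F := K) (r := r) hrK
      have hb : (sc n K u⁻¹ * g) ^ r = 1 := by
        rw [(show Commute (sc n K u⁻¹) g from sc_comm _ _).mul_pow, hg, ← map_pow, ← map_mul, inv_pow, hu,
          inv_mul_cancel, map_one]
      obtain ⟨e, he, -⟩ := exists_diag hzr hz hb
      have hzS : z ∈ S := hsat z (by rw [hzr]; exact S.one_mem)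
      refine ⟨⟨sc n K u * diagOf n z e, Subgroup.mul_mem _ (hsc u huS)
        (hdiag (fun i => z ^ (e i).val) fun i => Subgroup.pow_mem _ hzS _)⟩, ?_⟩
      show IsConj (sc n K u * diagOf n z e) g
      obtain ⟨w, hw'⟩ := isConj_iff.1 he.symm
      refine isConj_iff.2 ⟨w, ?_⟩
      rw [← mul_assoc w, ← sc_comm, mul_assoc (sc n K u), mul_assoc (sc n K u), hw', ← mul_assoc, ← map_mul,
        mul_inv_cancel, map_one, one_mul]
    · push Not at hcp
      let ctu : GL (Fin n) K := ⟨conjT (n := n) φ g, conjT (n := n) φ ↑g⁻¹,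
        by rw [← conjT_mul, ← Units.val_mul, inv_mul_cancel, Units.val_one, conjT_one],
        conjT_units φ g⟩
      have hctpow : ∀ (M : Matrix (Fin n) (Fin n) K) (j : ℕ),
          conjT (n := n) φ (M ^ j) = conjT (n := n) φ M ^ j := fun M j => by
        induction j with
        | zero => simpa using conjT_one φ
        | succ j ih => rw [pow_succ', conjT_mul, ih, ← pow_succ]
      have hp : ctu⁻¹ ^ r = sc n K c := by
        rw [inv_pow, inv_eq_iff_mul_eq_one]
        refine Units.ext ?_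
        rw [Units.val_mul, Units.val_pow_eq_pow_val, Units.val_one]
        show conjT (n := n) φ (g : Matrix (Fin n) (Fin n) K) ^ r * (sc n K c : Matrix (Fin n) (Fin n) K) = 1
        rw [← hctpow, ← Units.val_pow_eq_pow_val, hg]
        exact (mem_GU_iff φ hφq hφ _).1 (hsc c hc)
      obtain ⟨T, hT⟩ := isConj_iff.1 (isConj_of_pow_eq hrp hcp hg hp)
      obtain ⟨w, hw'⟩ := exists_unitary_similar φ hφ hw g T (by
        have : ctu * T * g = T := by
          rw [mul_assoc, mul_inv_eq_iff_eq_mul.1 hT, ← mul_assoc, mul_inv_cancel, one_mul]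
        exact congrArg Units.val this)
      exact ⟨⟨w * g * w⁻¹, (mem_GU_iff φ hφq hφ _).2 hw'⟩, IsConj.symm (isConj_iff.2 ⟨w, rfl⟩)⟩

end CfsgLib.ProjClass
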